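import Mathlib.RingTheory.LocalRing.ResidueField.Fiber
import Mathlib.RingTheory.Spectrum.Prime.FreeLocus
import Mathlib.RingTheory.Etale.Field
import Mathlib.RingTheory.Jacobson.Ring
import Mathlib.RingTheory.Unramified.Field
import Mathlib.FieldTheory.IsAlgClosed.Basic
import Mathlib.RingTheory.Algebraic.Integral
import Mathlib.RingTheory.LocalProperties.Reduced
import Mathlib.RingTheory.Spectrum.Prime.Noetherian
import Mathlib.RingTheory.RamificationInertia.Basic

/-!
# Number of primes over a maximal ideal of a finite flat unramified extension of domains
-/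

set_option autoImplicit false
set_option linter.style.haveILetI false

open TensorProduct

namespace FibreDeg5

universe u

/-- For an algebraically closed field the dimension of a finite reduced algebra is the number of its primes. -/
theorem finrank_eq_card {Ω : Type u} [Field Ω] [IsAlgClosed Ω] (B : Type u) [CommRing B]
    [Algebra Ω B] [Module.Finite Ω B] [IsReduced B] :
    Module.finrank Ω B = Nat.card (PrimeSpectrum B) := by
  have : IsArtinianRing B := IsArtinianRing.of_finite Ω B
  let _ := Fintype.ofFinite (PrimeSpectrum B)
  rw [IsArtinianRing.finrank_eq_sum_primeSpectrum B Ω, Nat.card_eq_fintype_card, ← Finset.card_univ,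
    Finset.card_eq_sum_ones]
  refine Finset.sum_congr rfl fun p _ => ?_
  let R := Localization.AtPrime p.asIdeal
  have : Module.Finite Ω R :=
    Module.Finite.of_surjective (Algebra.algHom Ω B R).toLinearMap
      (IsArtinianRing.localization_surjective p.asIdeal.primeCompl _)
  letI : Field R := (IsArtinianRing.isField_of_isReduced_of_isLocalRing R).toField
  have hb := IsAlgClosed.algebraMap_bijective_of_isIntegral (k := Ω) (K := R)
  rw [← LinearEquiv.finrank_eq (AlgEquiv.ofBijective (Algebra.ofId Ω R) hb).toLinearEquiv, Module.finrank_self]

/-- Finite type algebras over an algebraically closed field have algebraically closed residue fields at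
maximal ideals. -/
theorem isAlgClosed_residueField (k A : Type u) [Field k] [IsAlgClosed k] [CommRing A] [Algebra k A]
    [Algebra.FiniteType k A] (P : Ideal A) [P.IsMaximal] : IsAlgClosed P.ResidueField := by
  letI : Field (A ⧸ P) := Ideal.Quotient.field P
  haveI : Algebra.FiniteType k (A ⧸ P) := Algebra.FiniteType.of_surjective (Ideal.Quotient.mkₐ k P) Ideal.Quotient.mk_surjective
  haveI : Module.Finite k (A ⧸ P) := finite_of_finite_type_of_isJacobsonRing k (A ⧸ P)
  haveI : IsAlgClosed (A ⧸ P) :=
    IsAlgClosed.of_ringEquiv k (A ⧸ P) (RingEquiv.ofBijective _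
      (IsAlgClosed.algebraMap_bijective_of_isIntegral (k := k) (K := A ⧸ P)))
  exact IsAlgClosed.of_ringEquiv (A ⧸ P) P.ResidueField
    (RingEquiv.ofBijective _ P.bijective_algebraMap_quotient_residueField)

/-- A finite flat unramified extension `B` of a finite type domain `A` over an algebraically closed field
has exactly `rank_A B` primes over every maximal ideal. -/
theorem natCard_fibre (k A B : Type u) [Field k] [IsAlgClosed k] [CommRing A] [IsDomain A] [Algebra k A]
    [Algebra.FiniteType k A] [CommRing B] [Algebra A B] [Module.Finite A B] [Module.Flat A B]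
    [Algebra.FormallyUnramified A B] (P : PrimeSpectrum A) (hP : P.asIdeal.IsMaximal) :
    Nat.card {q : PrimeSpectrum B // PrimeSpectrum.comap (algebraMap A B) q = P} = Module.finrank A B := by
  haveI := hP
  haveI : IsAlgClosed P.asIdeal.ResidueField := isAlgClosed_residueField k A P.asIdeal
  haveI : IsNoetherianRing A := Algebra.FiniteType.isNoetherianRing k A
  haveI : Module.FinitePresentation A B := Module.finitePresentation_of_finite A B
  haveI : IsReduced (P.asIdeal.Fiber B) :=
    Algebra.FormallyUnramified.isReduced_of_field P.asIdeal.ResidueField _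
  rw [← Ideal.finrank_fiber_eq_finrank (R := A) (M := B) P.asIdeal, finrank_eq_card]
  exact Nat.card_congr (PrimeSpectrum.preimageHomeomorphFiber A B P).toEquiv

end FibreDeg5
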